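import Mathlib
import Cfsg.Agent.OddOrderCharacters.PF9.CliffGen
import Cfsg.Agent.H672.RM.Cliff
import Cfsg.Agent.H669.OverCount
import Cfsg.Agent.H595.Count
import Cfsg.Agent.S0856
import Cfsg.Agent.Blocks.Deflate

/-!
# Counting the irreducible characters over a set of characters of a normal subgroup

* `nOver N θ` : the number of the irreducible characters of `G` over `θ`;
* `nOver_clifford` : the Clifford correspondence as an equality of numbers;
* `nOver_le` : `nOver N θ ≤ k(S / N)`, `S` the stabilizer of `θ`; `nOver_eq` : equality if `N` is a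
  Hall subgroup;
* `count_over` : the number of the irreducible characters over a set of characters.
-/

set_option autoImplicit false
set_option linter.style.haveILetI false
set_option linter.unusedSectionVars false
open Cfsg

namespace Cfsg.Agent.H716.KGV

open Cfsg.Agent.Characters.Core Cfsg.Agent.Characters.Clifford
open Cfsg.Agent.H672 hiding inertia mem_inertia le_inertia
open Cfsg.Agent.H672.RM Cfsg.Agent.OddOrderCharacters Cfsg.Agent.OddOrderCharacters.NormalInduced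
open Cfsg.Agent.OddOrderCharacters.PF9.CliffGen (inertia mem_inertia le_inertia)
open scoped ComplexConjugate

universe u v

variable {G : Type u} [Group G] [Finite G]

/-- The number of the irreducible characters of `G` over the function `θ` on `N`. -/
noncomputable def nOver (N : Subgroup G) (θ : N → ℂ) : ℕ :=
  Nat.card {χ : IrrCharacter G // Over N.subtype (χ : G → ℂ) θ}

/-- The Clifford correspondence as an equality of numbers. -/
theorem nOver_clifford (N : Subgroup G) [hN : N.Normal]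
    {θ : N → ℂ} (hθ : IsIrrCharacter N θ) (T : Subgroup G) (hT : T = inertia N θ) (hNT : N ≤ T) :
    nOver N θ = Nat.card {ψ : IrrCharacter T // Over (Subgroup.inclusion hNT) (ψ : T → ℂ) θ} := by
  classical
  letI := Fintype.ofFinite G
  letI := Fintype.ofFinite N
  letI := Fintype.ofFinite T
  have hT' : ∀ g, g ∈ T ↔ conjFn N θ g = θ := fun g => by rw [hT]; exact mem_inertia
  have hirr : ∀ {ψ : T → ℂ}, IsIrrCharacter T ψ → Over (Subgroup.inclusion hNT) ψ θ →
      IsIrrCharacter G (indFun T ψ) := fun hψ h =>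
    PF9.CliffGen.irr_ind hθ hT' hNT hψ ((over_resTo hNT _ _).1 h)
  let F : {χ : IrrCharacter T // Over (Subgroup.inclusion hNT) (χ : T → ℂ) θ} →
      {χ : IrrCharacter G // Over N.subtype (χ : G → ℂ) θ} :=
    fun ψ => ⟨⟨indFun T (ψ.1 : T → ℂ), hirr ψ.1.2 ψ.2⟩,
      over_indFun N hθ T hNT ψ.1.2 (hirr ψ.1.2 ψ.2) ψ.2⟩
  have hF1 : Function.Injective F := by
    intro ψ ψ' h
    apply Subtype.ext
    apply Subtype.ext
    have h1 : indFun T (ψ.1 : T → ℂ) = indFun T (ψ'.1 : T → ℂ) :=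
      congrArg (fun x => (x.1 : G → ℂ)) h
    exact PF9.CliffGen.ind_inj hθ hT' hNT ψ.1.2 ψ'.1.2 ((over_resTo hNT _ _).1 ψ.2)
      ((over_resTo hNT _ _).1 ψ'.2) h1
  have hF2 : Function.Surjective F := by
    rintro ⟨⟨χ, hχ⟩, h2⟩
    obtain ⟨ψ, hψ, h3, h4⟩ := PF9.CliffGen.exists_ind hθ hT' hNT hχ ((over_res _ _).1 h2)
    exact ⟨⟨⟨ψ, hψ⟩, (over_resTo hNT _ _).2 h3⟩, Subtype.ext (Subtype.ext h4.symm)⟩
  exact (Nat.card_congr (Equiv.ofBijective F ⟨hF1, hF2⟩)).symm

theorem conjClasses_card_congr {A B : Type*} [Group A] [Group B] (e : A ≃* B) :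
    Nat.card (ConjClasses A) = Nat.card (ConjClasses B) := by
  refine Nat.card_congr (Equiv.ofBijective (ConjClasses.map (e : A →* B))
    ⟨?_, ConjClasses.map_surjective e.surjective⟩)
  intro x y h
  obtain ⟨a, rfl⟩ := ConjClasses.mk_surjective x
  obtain ⟨b, rfl⟩ := ConjClasses.mk_surjective y
  have h1 : IsConj (e a) (e b) := ConjClasses.mk_eq_mk_iff_isConj.1 h
  obtain ⟨c, hc⟩ := isConj_iff.1 h1
  refine ConjClasses.mk_eq_mk_iff_isConj.2 (isConj_iff.2 ⟨e.symm c, e.injective ?_⟩)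
  rw [map_mul, map_mul, map_inv, e.apply_symm_apply]
  exact hc

/-- `T / N ≃ R` for a surjection `T → R` with kernel `N`. -/
noncomputable def quotEquiv {Q : Type v} [Group Q] {T : Subgroup G} {N : Subgroup G} [hN : N.Normal]
    (f : T →* Q) (hf : Function.Surjective f) (hk : f.ker = N.subgroupOf T) :
    T ⧸ N.subgroupOf T ≃* Q :=
  (QuotientGroup.quotientMulEquivOfEq hk.symm).trans
    (QuotientGroup.quotientKerEquivOfSurjective f hf)

theorem over_sub_iff {N T : Subgroup G} (hNT : N ≤ T) (ψ : T → ℂ) (θ : N → ℂ) :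
    letI := Fintype.ofFinite (N.subgroupOf T)
    Over (Subgroup.inclusion hNT) ψ θ ↔
      classInner (fun n : N.subgroupOf T => ψ n) (PF9.CliffGen.down N T θ) ≠ 0 := by
  classical
  letI := Fintype.ofFinite (N.subgroupOf T)
  letI := Fintype.ofFinite N
  letI := Fintype.ofFinite T
  rw [over_resTo]
  have h1 : (fun n : N.subgroupOf T => ψ n) =
      PF9.CliffGen.down N T (PF9.CliffGen.resTo hNT ψ) := rfl
  rw [h1]
  letI := Fintype.ofFinite G
  rw [PF9.CliffGen.classInner_down hNT]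

theorem isIrr_down {N T : Subgroup G} (hNT : N ≤ T) {θ : N → ℂ} (hθ : IsIrrCharacter N θ) :
    IsIrrCharacter (N.subgroupOf T) (PF9.CliffGen.down N T θ) :=
  isIrr_comp (Subgroup.subgroupOfEquivOfLe hNT).toMonoidHom
    (Subgroup.subgroupOfEquivOfLe hNT).surjective hθ

theorem down_inv {N T : Subgroup G} [hN : N.Normal] {θ : N → ℂ} (hT : T = inertia N θ)
    (g : T) (n : N.subgroupOf T) :
    PF9.CliffGen.down N T θ ⟨g * n * g⁻¹, (inferInstance : (N.subgroupOf T).Normal).conj_mem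
      (n : T) n.2 g⟩ = PF9.CliffGen.down N T θ n := by
  have hg : (g : G) ∈ inertia N θ := by rw [← hT]; exact g.2
  rw [mem_inertia] at hg
  exact congrFun hg ⟨(n : T), Subgroup.mem_subgroupOf.mp n.2⟩

/-- At most `k(R)` irreducible characters lie over a character of `N` with stabilizer `S`,
`S / N ≃ R`. -/
theorem nOver_le {R : Type v} [Group R]
    (N : Subgroup G) [hN : N.Normal] {θ : N → ℂ} (hθ : IsIrrCharacter N θ)
    (T : Subgroup G) (hT : T = inertia N θ) (f : T →* R) (hf : Function.Surjective f)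
    (hk : f.ker = N.subgroupOf T) :
    nOver N θ ≤ Nat.card (ConjClasses R) := by
  classical
  have hNT : N ≤ T := by rw [hT]; exact le_inertia (isIrr_isClassFunction hθ)
  rw [nOver_clifford N hθ T hT hNT, ← conjClasses_card_congr (quotEquiv f hf hk)]
  letI := Fintype.ofFinite (N.subgroupOf T)
  have h1 := H669.OverCount.card_over_le (N.subgroupOf T) (isIrr_down hNT hθ) (down_inv hT)
  refine le_trans (le_of_eq (Nat.card_congr (Equiv.subtypeEquivRight fun ψ => ?_))) h1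
  exact over_sub_iff hNT (ψ : T → ℂ) θ

/-- The order of the stabilizer. -/
theorem card_inertia {R : Type v} [Group R]
    (N : Subgroup G) [hN : N.Normal] {θ : N → ℂ} (hθ : IsIrrCharacter N θ)
    (T : Subgroup G) (hT : T = inertia N θ) (f : T →* R) (hf : Function.Surjective f)
    (hk : f.ker = N.subgroupOf T) :
    Nat.card T = Nat.card N * Nat.card R := by
  have hNT : N ≤ T := by rw [hT]; exact le_inertia (isIrr_isClassFunction hθ)
  rw [← Nat.card_congr (quotEquiv f hf hk).toEquiv,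
    ← Nat.card_congr (Subgroup.subgroupOfEquivOfLe hNT).toEquiv, mul_comm]
  exact Subgroup.card_eq_card_quotient_mul_card_subgroup _

theorem over_one_iff (N : Subgroup G) [Fintype N] (χ : G → ℂ) :
    Over N.subtype χ (1 : N → ℂ) ↔ ∑ n : N, χ n ≠ 0 := by
  rw [over_iff, classInner_def]
  have h0 : (Nat.card N : ℂ)⁻¹ ≠ 0 := inv_ne_zero (by exact_mod_cast Nat.card_pos.ne')
  have h1 : ∀ n : N, (χ ∘ N.subtype) n * conj ((1 : N → ℂ) n) = χ n := fun n => by simp
  rw [Finset.sum_congr rfl fun n _ => h1 n]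
  constructor
  · exact fun h => right_ne_zero_of_mul h
  · exact fun h => mul_ne_zero h0 h

/-- Irreducible characters over the trivial character. -/
theorem card_over_one (N : Subgroup G) [N.Normal] :
    nOver N (1 : N → ℂ) = Nat.card (ConjClasses (G ⧸ N)) := by
  classical
  letI := Fintype.ofFinite N
  rw [← card_irr]
  symm
  refine Nat.card_congr (Equiv.ofBijective (fun χ : IrrCharacter (G ⧸ N) =>
    (⟨⟨(χ : G ⧸ N → ℂ) ∘ QuotientGroup.mk, isIrr_comp (QuotientGroup.mk' N)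
      (QuotientGroup.mk'_surjective N) χ.2⟩, ?_⟩ :
      {χ : IrrCharacter G // Over N.subtype (χ : G → ℂ) (1 : N → ℂ)})) ⟨?_, ?_⟩)
  · rw [over_one_iff]
    have h1 : ∀ n : N, ((χ : G ⧸ N → ℂ) ∘ QuotientGroup.mk) (n : G) = (χ : G ⧸ N → ℂ) 1 := by
      intro n
      rw [Function.comp_apply, (QuotientGroup.eq_one_iff (n : G)).2 n.2]
    change ∑ n : N, ((χ : G ⧸ N → ℂ) ∘ QuotientGroup.mk) (n : G) ≠ 0
    rw [Finset.sum_congr rfl fun n _ => h1 n, Finset.sum_const, Finset.card_univ, nsmul_eq_mul]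
    refine mul_ne_zero ?_ (isIrr_apply_one_ne_zero χ.2)
    exact_mod_cast Fintype.card_ne_zero
  · intro χ χ' h
    apply Subtype.ext
    funext q
    obtain ⟨g, rfl⟩ := QuotientGroup.mk_surjective q
    exact congrFun (congrArg (fun z : {χ : IrrCharacter G // Over N.subtype (χ : G → ℂ)
      (1 : N → ℂ)} => ((z : IrrCharacter G) : G → ℂ)) h) g
  · rintro ⟨χ, hχ⟩
    obtain ⟨χ', h⟩ := Blocks.Deflate.exists_deflation N (χ : G → ℂ) χ.2
      ((over_one_iff N (χ : G → ℂ)).1 hχ)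
    exact ⟨χ', Subtype.ext (Subtype.ext h.symm)⟩

theorem over_iff_ind (N : Subgroup G) [Fintype G] {θ : N → ℂ} {ψ : G → ℂ}
    (hψ : IsIrrCharacter G ψ) : Over N.subtype ψ θ ↔ classInner (indFun N θ) ψ ≠ 0 := by
  classical
  letI := Fintype.ofFinite N
  rw [over_iff, IndRes.classInner_indFun_left N θ (isIrr_isClassFunction hψ)]
  have h1 : classInner (ψ ∘ N.subtype) θ = conj (classInner θ (IndRes.res N ψ)) := by
    rw [classInner_conj_symm]
    rfl
  rw [h1]
  exact map_ne_zero _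

theorem one_isIrr (N : Subgroup G) : IsIrrCharacter N (1 : N → ℂ) := isIrr_one

/-- If `θ` extends to its stabilizer then equality holds in `nOver_le`. -/
theorem nOver_eq {R : Type v} [Group R]
    (N : Subgroup G) [hN : N.Normal] (hcop : (Nat.card N).Coprime N.index)
    {θ : N → ℂ} (hθ : IsIrrCharacter N θ)
    (T : Subgroup G) (hT : T = inertia N θ) (f : T →* R) (hf : Function.Surjective f)
    (hk : f.ker = N.subgroupOf T) :
    nOver N θ = Nat.card (ConjClasses R) := by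
  classical
  have hNT : N ≤ T := by rw [hT]; exact le_inertia (isIrr_isClassFunction hθ)
  letI := Fintype.ofFinite T
  letI := Fintype.ofFinite (N.subgroupOf T)
  rw [nOver_clifford N hθ T hT hNT,
    ← conjClasses_card_congr (quotEquiv f hf hk), ← card_over_one]
  set K : Subgroup T := N.subgroupOf T with hK
  set θ' : K → ℂ := PF9.CliffGen.down N T θ with hθ'
  have hθi : IsIrrCharacter K θ' := isIrr_down hNT hθ
  have hinv := down_inv hT
  have hcop' : (Nat.card K).Coprime K.index := by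
    have h1 : Nat.card K = Nat.card N := Nat.card_congr (Subgroup.subgroupOfEquivOfLe hNT).toEquiv
    rw [h1]
    exact Nat.Coprime.coprime_dvd_right (Subgroup.relIndex_dvd_index_of_normal N T) hcop
  obtain ⟨χ, hχ, -⟩ := H595.Count.canon K hcop' ⟨θ', hθi⟩ hinv
  have hbij := S0856.result K (1 : K → ℂ) θ' (one_isIrr K) hθi (fun _ _ => rfl) hinv
    (by rw [one_mul]; exact hθi) (χ : T → ℂ) χ.2 hχ
  rw [one_mul] at hbij
  symm
  have e1 : ∀ ψ : T → ℂ, Over (Subgroup.inclusion hNT) ψ θ ↔ Over K.subtype ψ θ' := fun ψ =>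
    over_iff_sub hNT ψ θ
  refine Nat.card_congr (Equiv.ofBijective (fun β : {β : IrrCharacter T //
    Over K.subtype (β : T → ℂ) (1 : K → ℂ)} => (⟨⟨(β.1 : T → ℂ) * χ, ?_⟩, ?_⟩ :
      {ψ : IrrCharacter T // Over (Subgroup.inclusion hNT) (ψ : T → ℂ) θ})) ⟨?_, ?_⟩)
  · exact (hbij.mapsTo ⟨β.1.2, (over_iff_ind K β.1.2).1 β.2⟩).1
  · have h1 := hbij.mapsTo ⟨β.1.2, (over_iff_ind K β.1.2).1 β.2⟩
    exact (e1 _).2 ((over_iff_ind K h1.1).2 h1.2)
  · intro β β' h
    have h1 : (β.1 : T → ℂ) * χ = (β'.1 : T → ℂ) * χ :=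
      congrArg (fun z : {ψ : IrrCharacter T // Over (Subgroup.inclusion hNT) (ψ : T → ℂ) θ} =>
        ((z : IrrCharacter T) : T → ℂ)) h
    exact Subtype.ext (Subtype.ext (hbij.injOn ⟨β.1.2, (over_iff_ind K β.1.2).1 β.2⟩
      ⟨β'.1.2, (over_iff_ind K β'.1.2).1 β'.2⟩ h1))
  · rintro ⟨ψ, hψ⟩
    obtain ⟨β, ⟨hβ1, hβ2⟩, hβ3⟩ := hbij.surjOn
      ⟨ψ.2, (over_iff_ind K ψ.2).1 ((e1 _).1 hψ)⟩
    exact ⟨⟨⟨β, hβ1⟩, (over_iff_ind K hβ1).2 hβ2⟩, Subtype.ext (Subtype.ext hβ3)⟩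

theorem inertia_le_of {N : Subgroup G} [hN : N.Normal] {T : Subgroup G} {Ω : Set (IrrCharacter N)}
    (htr : ∀ (g : G), ∀ θ ∈ Ω, ∀ θ' ∈ Ω, (θ' : N → ℂ) = conjFn N (θ : N → ℂ) g → g ∈ T)
    {θ : IrrCharacter N} (hθ : θ ∈ Ω) : inertia N (θ : N → ℂ) ≤ T :=
  fun g hg => htr g θ hθ θ hθ (mem_inertia.1 hg).symm

theorem over_conj (N : Subgroup G) [hN : N.Normal] (χ : IrrCharacter G) {θ : N → ℂ}
    (h : Over N.subtype (χ : G → ℂ) θ) (g : G) : Over N.subtype (χ : G → ℂ) (conjFn N θ g) := by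
  classical
  letI := Fintype.ofFinite N
  letI := Fintype.ofFinite G
  rw [over_iff] at h ⊢
  have h1 : (χ : G → ℂ) ∘ N.subtype = conjFn N ((χ : G → ℂ) ∘ N.subtype) g := by
    funext n
    exact (isIrr_isClassFunction χ.2 (n : G) g).symm
  rw [h1, IndRes.classInner_conjFn]
  exact h

theorem exists_conjFn_of_over (N : Subgroup G) [hN : N.Normal] {χ : G → ℂ}
    (hχ : IsIrrCharacter G χ) {θ θ' : N → ℂ} (hθ : IsIrrCharacter N θ) (hθ' : IsIrrCharacter N θ')
    (h : Over N.subtype χ θ) (h' : Over N.subtype χ θ') : ∃ g : G, θ' = conjFn N θ g := by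
  classical
  letI := Fintype.ofFinite N
  letI := Fintype.ofFinite G
  have h1 : classInner (fun n : N => χ n) θ ≠ 0 := (over_iff N.subtype χ θ).1 h
  have h2 : classInner (fun n : N => χ n) θ' ≠ 0 := (over_iff N.subtype χ θ').1 h'
  obtain ⟨g, hg⟩ := exists_conj_of_constituents N hχ hθ hθ' h1 h2
  refine ⟨g, ?_⟩
  rw [hg]
  funext n
  rw [Function.comp_apply, conjFn_apply]
  congr 1

/-- The elements carrying `θ₀` to `θ`. -/
theorem card_fiber (N : Subgroup G) [hN : N.Normal] (T : Subgroup G) {θ₀ θ : N → ℂ} {g₀ : G}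
    (hg₀T : g₀ ∈ T) (hg₀ : θ = conjFn N θ₀ g₀) (hle : inertia N θ ≤ T) :
    Nat.card {g : T // conjFn N θ₀ (g : G) = θ} = Nat.card (inertia N θ) := by
  refine Nat.card_congr ⟨fun g => ⟨g₀⁻¹ * g.1, ?_⟩, fun s => ⟨⟨g₀ * s, T.mul_mem hg₀T (hle s.2)⟩, ?_⟩,
    fun g => ?_, fun s => ?_⟩
  · have h1 : conjFn N θ g₀⁻¹ = θ₀ := by
      rw [hg₀, ← conjFn_mul, mul_inv_cancel, conjFn_one]
    rw [mem_inertia, conjFn_mul, h1, g.2]
  · change conjFn N θ₀ (g₀ * s) = θ
    rw [conjFn_mul, ← hg₀]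
    exact mem_inertia.1 s.2
  · exact Subtype.ext (Subtype.ext (mul_inv_cancel_left g₀ (g.1 : G)))
  · exact Subtype.ext (inv_mul_cancel_left g₀ (s : G))

/-- The orbit count for one character. -/
theorem count_one (N : Subgroup G) [hN : N.Normal] (T : Subgroup G) (Ω : Set (IrrCharacter N))
    (hst : ∀ g ∈ T, ∀ θ ∈ Ω, ∀ θ' : IrrCharacter N, (θ' : N → ℂ) = conjFn N (θ : N → ℂ) g → θ' ∈ Ω)
    (htr : ∀ (g : G), ∀ θ ∈ Ω, ∀ θ' ∈ Ω, (θ' : N → ℂ) = conjFn N (θ : N → ℂ) g → g ∈ T)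
    (χ : IrrCharacter G) (h : ∃ θ ∈ Ω, Over N.subtype (χ : G → ℂ) (θ : N → ℂ))
    (S : Finset (IrrCharacter N))
    (hS : ∀ θ, θ ∈ S ↔ θ ∈ Ω ∧ Over N.subtype (χ : G → ℂ) (θ : N → ℂ)) :
    Nat.card T = ∑ θ ∈ S, Nat.card (inertia N (θ : N → ℂ)) := by
  classical
  letI := Fintype.ofFinite N
  letI := Fintype.ofFinite G
  letI := Fintype.ofFinite T
  obtain ⟨θ₀, hθ₀, h0⟩ := h
  let F : T → IrrCharacter N := fun g => ⟨conjFn N (θ₀ : N → ℂ) g, IndRes.isIrr_conjFn N θ₀.2 g⟩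
  have hF : ∀ g ∈ (Finset.univ : Finset T), F g ∈ S := fun g _ =>
    (hS _).2 ⟨hst g g.2 θ₀ hθ₀ _ rfl, over_conj N χ h0 g⟩
  rw [Nat.card_eq_fintype_card, ← Finset.card_univ, Finset.card_eq_sum_card_fiberwise hF]
  refine Finset.sum_congr rfl fun θ hθ => ?_
  obtain ⟨hθΩ, hθo⟩ := (hS θ).1 hθ
  obtain ⟨g₀, hg₀'⟩ := exists_conjFn_of_over N χ.2 θ₀.2 θ.2 h0 hθo
  rw [← card_fiber N T (htr g₀ θ₀ hθ₀ θ hθΩ hg₀') hg₀' (inertia_le_of htr hθΩ),
    Nat.card_eq_fintype_card, Fintype.card_subtype]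
  congr 1
  ext g
  rw [Finset.mem_filter, Finset.mem_filter, Subtype.ext_iff]

/-- **The number of the irreducible characters over a set of characters.** -/
theorem count_over (N : Subgroup G) [hN : N.Normal] (T : Subgroup G) (Ω : Set (IrrCharacter N))
    (hst : ∀ g ∈ T, ∀ θ ∈ Ω, ∀ θ' : IrrCharacter N, (θ' : N → ℂ) = conjFn N (θ : N → ℂ) g → θ' ∈ Ω)
    (htr : ∀ (g : G), ∀ θ ∈ Ω, ∀ θ' ∈ Ω, (θ' : N → ℂ) = conjFn N (θ : N → ℂ) g → g ∈ T)
    (Ωf : Finset (IrrCharacter N)) (hΩf : ∀ θ, θ ∈ Ωf ↔ θ ∈ Ω) :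
    Nat.card {χ : IrrCharacter G // ∃ θ ∈ Ω, Over N.subtype (χ : G → ℂ) (θ : N → ℂ)} * Nat.card T =
      ∑ θ ∈ Ωf, nOver N (θ : N → ℂ) * Nat.card (inertia N (θ : N → ℂ)) := by
  classical
  haveI := finite_irr (G := G)
  letI := Fintype.ofFinite (IrrCharacter G)
  have h1 : ∀ θ : IrrCharacter N, nOver N (θ : N → ℂ) = ∑ χ : IrrCharacter G,
      if Over N.subtype (χ : G → ℂ) (θ : N → ℂ) then 1 else 0 := by
    intro θ
    rw [nOver, Nat.card_eq_fintype_card, Fintype.card_subtype, Finset.card_filter]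
  have h2 : ∀ θ ∈ Ωf, nOver N (θ : N → ℂ) * Nat.card (inertia N (θ : N → ℂ)) =
      ∑ χ : IrrCharacter G, if Over N.subtype (χ : G → ℂ) (θ : N → ℂ) then
        Nat.card (inertia N (θ : N → ℂ)) else 0 := by
    intro θ _
    rw [h1 θ, Finset.sum_mul]
    exact Finset.sum_congr rfl fun χ _ => by rw [ite_mul, one_mul, zero_mul]
  rw [Finset.sum_congr rfl h2, Finset.sum_comm, Nat.card_eq_fintype_card, Fintype.card_subtype,
    Finset.card_filter, Finset.sum_mul]
  refine Finset.sum_congr rfl fun χ _ => ?_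
  rw [← Finset.sum_filter]
  by_cases hχ : ∃ θ ∈ Ω, Over N.subtype (χ : G → ℂ) (θ : N → ℂ)
  · rw [if_pos hχ, one_mul]
    exact count_one N T Ω hst htr χ hχ _ fun θ => by rw [Finset.mem_filter, hΩf]
  · rw [if_neg hχ, zero_mul]
    symm
    refine Finset.sum_eq_zero fun θ hθ => ?_
    rw [Finset.mem_filter, hΩf] at hθ
    exact absurd ⟨θ, hθ⟩ hχ

end Cfsg.Agent.H716.KGV
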