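import Mathlib

/-!
# A group of automorphisms of a normal `p`-subgroup modulo inner automorphisms

`exists_comp` : if `D` is a normal `p`-subgroup of `G`, `D C_G(D) ≤ T` of index prime to `p` in `T`
then `T / D C_G(D)` is isomorphic to a `p'`-group `H` of automorphisms of `D` with the same action
modulo inner automorphisms.
-/

set_option autoImplicit false

namespace Cfsg.Agent.H716.KGV

open Subgroup

universe u

theorem conj_range_normal {D : Type*} [Group D] : (MulAut.conj : D →* MulAut D).range.Normal := by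
  constructor
  rintro _ ⟨d, rfl⟩ β
  refine ⟨β d, ?_⟩
  ext x
  simp [MulAut.conj_apply]

theorem exists_comp {G : Type u} [Group G] [Finite G] {p : ℕ} [hp : Fact p.Prime]
    (D T : Subgroup G) [hDn : D.Normal] (hD : IsPGroup p D)
    (hNT : D ⊔ centralizer (D : Set G) ≤ T)
    (hidx : ¬ p ∣ (D ⊔ centralizer (D : Set G)).relIndex T) :
    ∃ (H : Type u) (_ : Group H) (_ : Finite H) (π : T →* H) (α : H →* MulAut D),
      Function.Surjective π ∧ π.ker = (D ⊔ centralizer (D : Set G)).subgroupOf T ∧
      ¬ p ∣ Nat.card H ∧ (∀ h, (∃ d : D, α h = MulAut.conj d) → h = 1) ∧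
      ∀ t : T, ∃ d : D, (MulAut.conjNormal (t : G) : MulAut D) = MulAut.conj d * α (π t) := by
  classical
  have hDT : D ≤ T := le_sup_left.trans hNT
  let φ : T →* MulAut D := (MulAut.conjNormal : G →* MulAut D).comp T.subtype
  set A : Subgroup (MulAut D) := φ.range with hA
  set J : Subgroup (MulAut D) := (MulAut.conj : D →* MulAut D).range with hJ
  have hJn : J.Normal := conj_range_normal
  set I : Subgroup A := J.subgroupOf A with hI
  have hIn : I.Normal := inferInstance
  have hφs : Function.Surjective φ.rangeRestrict := φ.rangeRestrict_surjective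
  have hcomap : I.comap φ.rangeRestrict = (D ⊔ centralizer (D : Set G)).subgroupOf T := by
    ext t
    rw [mem_comap, hI, mem_subgroupOf, mem_subgroupOf]
    constructor
    · rintro ⟨d, hd⟩
      have h1 : ∀ x : D, (d : G) * x * (d : G)⁻¹ = (t : G) * x * (t : G)⁻¹ := by
        intro x
        have h2 := congrArg (fun β : MulAut D => ((β x : D) : G)) hd
        simpa [MulAut.conj_apply, φ, MulAut.conjNormal_apply] using h2
      have h3 : (d : G)⁻¹ * t ∈ centralizer (D : Set G) := by
        rw [mem_centralizer_iff]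
        intro x hx
        have h4 := h1 ⟨x, hx⟩
        change (d : G) * x * (d : G)⁻¹ = (t : G) * x * (t : G)⁻¹ at h4
        have h5 : (d : G)⁻¹ * ((d : G) * x * (d : G)⁻¹) * t =
            (d : G)⁻¹ * ((t : G) * x * (t : G)⁻¹) * t := by rw [h4]
        have e1 : (d : G)⁻¹ * ((d : G) * x * (d : G)⁻¹) * t = x * ((d : G)⁻¹ * t) := by group
        have e2 : (d : G)⁻¹ * ((t : G) * x * (t : G)⁻¹) * t = (d : G)⁻¹ * t * x := by group
        rw [← e1, ← e2, h5]
      have h6 : (t : G) = d * ((d : G)⁻¹ * t) := by group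
      rw [h6]
      exact mul_mem_sup d.2 h3
    · intro ht
      obtain ⟨d, hd, c, hc, hdc⟩ := mem_sup_of_normal_left.1 ht
      refine ⟨⟨d, hd⟩, ?_⟩
      ext x
      have h7 := mem_centralizer_iff.1 hc x x.2
      have h8 : ((φ.rangeRestrict t : A) : MulAut D) x = MulAut.conjNormal (t : G) x := rfl
      rw [h8, MulAut.conjNormal_apply, MulAut.conj_apply, ← hdc]
      change d * x * d⁻¹ = d * c * x * (d * c)⁻¹
      have e3 : d * c * x * (d * c)⁻¹ = d * (c * x) * c⁻¹ * d⁻¹ := by group
      rw [e3, ← h7]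
      group
  have hIidx : ¬ p ∣ I.index := by
    have h1 := Subgroup.index_comap_of_surjective I hφs
    rw [hcomap] at h1
    rw [← h1]
    exact hidx
  have hIp : IsPGroup p I := by
    have h1 : IsPGroup p J := hD.of_surjective (MulAut.conj : D →* MulAut D).rangeRestrict
      (MulAut.conj : D →* MulAut D).rangeRestrict_surjective
    exact h1.comap_of_injective A.subtype A.subtype_injective
  have hcop : (Nat.card I).Coprime I.index := by
    obtain ⟨n, hn⟩ := (IsPGroup.iff_card (p := p)).1 hIp
    rw [hn]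
    exact Nat.Coprime.pow_left n ((Nat.Prime.coprime_iff_not_dvd hp.out).2 hIidx)
  obtain ⟨K, hK⟩ := Subgroup.exists_right_complement'_of_coprime hcop
  let e := (hK.symm).QuotientMulEquiv
  let π : T →* K := e.toMonoidHom.comp ((QuotientGroup.mk' I).comp φ.rangeRestrict)
  have hker : π.ker = I.comap φ.rangeRestrict := by
    ext t
    rw [MonoidHom.mem_ker, mem_comap]
    change e (QuotientGroup.mk' I (φ.rangeRestrict t)) = 1 ↔ _
    rw [map_eq_one_iff e e.injective]
    exact QuotientGroup.eq_one_iff _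
  have hesymm : ∀ k : K, e.symm k = QuotientGroup.mk (k : A) := fun k => rfl
  refine ⟨K, inferInstance, inferInstance, π, A.subtype.comp K.subtype, ?_, ?_, ?_, ?_, ?_⟩
  · exact e.surjective.comp ((QuotientGroup.mk'_surjective I).comp hφs)
  · rw [hker, hcomap]
  · rw [← Nat.card_congr e.toEquiv]
    exact hIidx
  · rintro k ⟨d, hd⟩
    have h1 : (k : A) ∈ I := ⟨d, hd.symm⟩
    have h2 := (hK.disjoint.le_bot ⟨h1, k.2⟩ : (k : A) ∈ (⊥ : Subgroup A))
    exact Subtype.ext (Subgroup.mem_bot.1 h2)
  · intro t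
    have h1 : (QuotientGroup.mk ((π t : K) : A) : A ⧸ I) = QuotientGroup.mk (φ.rangeRestrict t) := by
      rw [← hesymm]
      exact e.symm_apply_apply _
    have h2 := QuotientGroup.eq.1 h1
    have h3 : (φ.rangeRestrict t) * ((π t : K) : A)⁻¹ ∈ I := by
      have := hIn.conj_mem _ h2 ((π t : K) : A)
      have e1 : ((π t : K) : A) * (((π t : K) : A)⁻¹ * φ.rangeRestrict t) * ((π t : K) : A)⁻¹ =
          (φ.rangeRestrict t) * ((π t : K) : A)⁻¹ := by group
      rwa [e1] at this
    obtain ⟨d, hd⟩ := h3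
    refine ⟨d, ?_⟩
    rw [hd]
    change _ = ((φ.rangeRestrict t) * ((π t : K) : A)⁻¹ : MulAut D) * _
    simp [φ]

end Cfsg.Agent.H716.KGV
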