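import Mathlib
import Cfsg.Agent.H716.KGV.Cliff
import Cfsg.Agent.H716.KGV.Grp

/-!
# The sum `∑ k(H_ζ) |H_ζ|` over the irreducible characters of `D`

`H` is a `p'`-group acting on the `p`-group `D`, faithfully modulo inner automorphisms. Then
`∑_{ζ ∈ Irr(D)} k(H_ζ) |H_ζ| ≤ |D| |H|` and `∑_{ζ ∈ Lin(D)} k(H_ζ) |H_ζ| ≤ |D : D'| |H|`.
-/

set_option autoImplicit false
set_option linter.style.haveILetI false
set_option linter.unusedSectionVars false
open Cfsg

namespace Cfsg.Agent.H716.KGV

open Cfsg.Agent.Characters.Core Cfsg.Agent.H644.KGV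
open Cfsg.Agent.H672 hiding inertia mem_inertia le_inertia
open Cfsg.Agent.OddOrderCharacters Cfsg.Agent.OddOrderCharacters.NormalInduced
open Cfsg.Agent.OddOrderCharacters.PF9.CliffGen (inertia mem_inertia le_inertia)
open scoped ComplexConjugate

universe u

variable {D H : Type u} [Group D] [Group H]

/-- The stabilizer of a function on `D`. -/
def stabH (α : H →* MulAut D) (ζ : D → ℂ) : Subgroup H where
  carrier := {h | ∀ x, ζ (α h x) = ζ x}
  one_mem' := fun x => by rw [map_one]; rfl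
  mul_mem' := by
    intro a b ha hb x
    rw [map_mul, MulAut.mul_apply, ha, hb]
  inv_mem' := by
    intro a ha x
    have h1 := ha ((α a)⁻¹ x)
    rw [MulAut.apply_inv_self] at h1
    rw [map_inv, h1]

theorem mem_stabH {α : H →* MulAut D} {ζ : D → ℂ} {h : H} :
    h ∈ stabH α ζ ↔ ∀ x, ζ (α h x) = ζ x := Iff.rfl

section X

variable (α : H →* MulAut D)

/-- The normal subgroup `D` of the semidirect product. -/
abbrev DX : Subgroup (D ⋊[α] H) := (SemidirectProduct.inl : D →* D ⋊[α] H).range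

theorem mem_DX (x : D ⋊[α] H) : x ∈ DX α ↔ x.right = 1 := by
  rw [DX, SemidirectProduct.range_inl_eq_ker_rightHom, MonoidHom.mem_ker]
  rfl

instance : (DX α).Normal := by
  rw [DX, SemidirectProduct.range_inl_eq_ker_rightHom]
  infer_instance

/-- `D` as a subgroup of the semidirect product. -/
noncomputable def eX : D ≃* DX α := MonoidHom.ofInjective SemidirectProduct.inl_injective

theorem coe_eX (d : D) : ((eX α d : DX α) : D ⋊[α] H) = SemidirectProduct.inl d := rfl

theorem conj_eX (x : D ⋊[α] H) (d : D) (hx : x * (eX α d : D ⋊[α] H) * x⁻¹ ∈ DX α) :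
    (⟨x * (eX α d : D ⋊[α] H) * x⁻¹, hx⟩ : DX α) =
      eX α (x.left * (α x.right d) * x.left⁻¹) := by
  apply Subtype.ext
  change x * (SemidirectProduct.inl d : D ⋊[α] H) * x⁻¹ =
    SemidirectProduct.inl (x.left * (α x.right d) * x.left⁻¹)
  have h1 : x = SemidirectProduct.inl x.left * SemidirectProduct.inr x.right :=
    (SemidirectProduct.inl_left_mul_inr_right x).symm
  conv_lhs => rw [h1]
  rw [mul_inv_rev, map_mul, map_mul, SemidirectProduct.inl_aut]
  simp only [map_inv, mul_assoc]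

/-- Irreducible characters of `D` as characters of the normal subgroup. -/
noncomputable def irrX : IrrCharacter D ≃ IrrCharacter (DX α) where
  toFun ζ := ⟨(ζ : D → ℂ) ∘ (eX α).symm, isIrr_comp (eX α).symm.toMonoidHom
    (eX α).symm.surjective ζ.2⟩
  invFun θ := ⟨(θ : DX α → ℂ) ∘ (eX α), isIrr_comp (eX α).toMonoidHom (eX α).surjective θ.2⟩
  left_inv ζ := by
    apply Subtype.ext
    funext x
    change (ζ : D → ℂ) ((eX α).symm (eX α x)) = _
    rw [MulEquiv.symm_apply_apply]
  right_inv θ := by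
    apply Subtype.ext
    funext x
    change (θ : DX α → ℂ) ((eX α) ((eX α).symm x)) = _
    rw [MulEquiv.apply_symm_apply]

theorem irrX_apply (ζ : IrrCharacter D) (d : D) :
    (irrX α ζ : DX α → ℂ) (eX α d) = (ζ : D → ℂ) d := by
  change (ζ : D → ℂ) ((eX α).symm (eX α d)) = _
  rw [MulEquiv.symm_apply_apply]

/-- The stabilizer in the semidirect product. -/
theorem mem_inertiaX (ζ : IrrCharacter D) (x : D ⋊[α] H) :
    x ∈ inertia (DX α) (irrX α ζ : DX α → ℂ) ↔ x.right ∈ stabH α (ζ : D → ℂ) := by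
  have h1 : ∀ d : D, conjFn (DX α) (irrX α ζ : DX α → ℂ) x (eX α d) =
      (ζ : D → ℂ) (α x.right d) := by
    intro d
    rw [conjFn_apply, conj_eX, irrX_apply]
    exact isIrr_isClassFunction ζ.2 _ _
  rw [mem_inertia, mem_stabH]
  constructor
  · intro h d
    rw [← h1, h, irrX_apply]
  · intro h
    funext y
    obtain ⟨d, rfl⟩ := (eX α).surjective y
    rw [h1, h, irrX_apply]

variable [Finite D] [Finite H]

instance : Finite (DX α) := Finite.of_equiv D (eX α).toEquiv

/-- The number of the irreducible characters of the semidirect product over a set of characters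
of `D` given by the degree. -/
theorem countX (P : ℂ → Prop) (hcop : (Nat.card D).Coprime (Nat.card H))
    (S : Finset (IrrCharacter D)) (hS : ∀ ζ, ζ ∈ S ↔ P ((ζ : D → ℂ) 1)) :
    Nat.card {χ : IrrCharacter (D ⋊[α] H) // ∃ θ ∈ {θ : IrrCharacter (DX α) |
      P ((θ : DX α → ℂ) 1)}, Over (DX α).subtype (χ : (D ⋊[α] H) → ℂ) (θ : DX α → ℂ)} *
      Nat.card H =
      ∑ ζ ∈ S, Nat.card (ConjClasses (stabH α (ζ : D → ℂ))) *
        Nat.card (stabH α (ζ : D → ℂ)) := by
  classical
  have hfin : Finite (D ⋊[α] H) := Finite.of_equiv _ SemidirectProduct.equivProd.symm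
  have hcardX : Nat.card (D ⋊[α] H) = Nat.card D * Nat.card H := SemidirectProduct.card
  have hDX : Nat.card (DX α) = Nat.card D := (Nat.card_congr (eX α).toEquiv).symm
  have hidx : (DX α).index = Nat.card H := by
    have h1 := (DX α).card_mul_index
    rw [hcardX, hDX] at h1
    exact Nat.eq_of_mul_eq_mul_left Nat.card_pos h1
  have hcop' : (Nat.card (DX α)).Coprime (DX α).index := by rw [hDX, hidx]; exact hcop
  have h1 := count_over (G := D ⋊[α] H) (DX α) ⊤ {θ : IrrCharacter (DX α) | P ((θ : DX α → ℂ) 1)}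
    (by
      intro g _ θ hθ θ' h
      change P ((θ' : DX α → ℂ) 1)
      rw [h, conjFn_apply]
      have e : (⟨g * ((1 : DX α) : D ⋊[α] H) * g⁻¹, Subgroup.Normal.conj_mem inferInstance _
          (1 : DX α).2 g⟩ : DX α) = 1 := Subtype.ext (by simp)
      rw [e]
      exact hθ)
    (fun g _ _ _ _ _ => Subgroup.mem_top g) (S.map (irrX α).toEmbedding) (by
      intro θ
      obtain ⟨ζ, rfl⟩ := (irrX α).surjective θ
      rw [Finset.mem_map_equiv, Equiv.symm_apply_apply, hS]
      change _ ↔ P _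
      have h2 := irrX_apply α ζ 1
      rw [map_one] at h2
      rw [h2])
  rw [Subgroup.card_top, hcardX, Finset.sum_map] at h1
  have h3 : ∀ ζ ∈ S, nOver (DX α) ((irrX α).toEmbedding ζ : DX α → ℂ) *
      Nat.card (inertia (DX α) ((irrX α).toEmbedding ζ : DX α → ℂ)) =
      Nat.card D * (Nat.card (ConjClasses (stabH α (ζ : D → ℂ))) *
        Nat.card (stabH α (ζ : D → ℂ))) := by
    intro ζ _
    change nOver (DX α) (irrX α ζ : DX α → ℂ) *
      Nat.card (inertia (DX α) (irrX α ζ : DX α → ℂ)) = _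
    let f : inertia (DX α) (irrX α ζ : DX α → ℂ) →* stabH α (ζ : D → ℂ) :=
      (SemidirectProduct.rightHom.comp (Subgroup.subtype _)).codRestrict _
        fun x => (mem_inertiaX α ζ x).1 x.2
    have hf : Function.Surjective f := by
      rintro ⟨h, hh⟩
      exact ⟨⟨SemidirectProduct.inr h, (mem_inertiaX α ζ _).2 (by simpa using hh)⟩,
        Subtype.ext rfl⟩
    have hk : f.ker = (DX α).subgroupOf (inertia (DX α) (irrX α ζ : DX α → ℂ)) := by
      ext x
      rw [MonoidHom.mem_ker, Subgroup.mem_subgroupOf, mem_DX, Subtype.ext_iff]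
      rfl
    rw [nOver_eq (DX α) hcop' (irrX α ζ).2 _ rfl f hf hk,
      card_inertia (DX α) (irrX α ζ).2 _ rfl f hf hk, hDX]
    ring
  rw [Finset.sum_congr rfl h3, ← Finset.mul_sum] at h1
  have h4 : 0 < Nat.card D := Nat.card_pos
  have h5 : Nat.card D * (Nat.card {χ : IrrCharacter (D ⋊[α] H) // ∃ θ ∈ {θ : IrrCharacter (DX α) |
      P ((θ : DX α → ℂ) 1)}, Over (DX α).subtype (χ : (D ⋊[α] H) → ℂ) (θ : DX α → ℂ)} *
      Nat.card H) = Nat.card D * ∑ ζ ∈ S, Nat.card (ConjClasses (stabH α (ζ : D → ℂ))) *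
        Nat.card (stabH α (ζ : D → ℂ)) := by
    rw [← h1]; ring
  exact Nat.eq_of_mul_eq_mul_left h4 h5

theorem centralizer_DX (hα : ∀ h, (∃ d : D, α h = MulAut.conj d) → h = 1) :
    Subgroup.centralizer (DX α : Set (D ⋊[α] H)) ≤ DX α := by
  intro x hx
  rw [mem_DX]
  refine hα _ ⟨x.left⁻¹, ?_⟩
  ext d
  have h1 := Subgroup.mem_centralizer_iff.1 hx (eX α d : D ⋊[α] H) (eX α d).2
  have h2 : x * (eX α d : D ⋊[α] H) * x⁻¹ = (eX α d : D ⋊[α] H) := by
    rw [← h1, mul_inv_cancel_right]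
  have h3 := conj_eX α x d (by rw [h2]; exact (eX α d).2)
  have h4 : eX α d = eX α (x.left * (α x.right d) * x.left⁻¹) := by
    rw [← h3]
    exact Subtype.ext h2.symm
  have h5 := (eX α).injective h4
  rw [MulAut.conj_apply, inv_inv]
  conv_rhs => rw [h5]
  group

variable {α} {p : ℕ} [hp : Fact p.Prime]

theorem coprime_card (hD : IsPGroup p D) (hH : ¬ p ∣ Nat.card H) :
    (Nat.card D).Coprime (Nat.card H) := by
  obtain ⟨n, hn⟩ := (IsPGroup.iff_card (p := p)).1 hD
  rw [hn]
  exact Nat.Coprime.pow_left n ((Nat.Prime.coprime_iff_not_dvd hp.out).2 hH)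

theorem index_DX : (DX α).index = Nat.card H := by
  have h1 := (DX α).card_mul_index
  have hDX : Nat.card (DX α) = Nat.card D := (Nat.card_congr (eX α).toEquiv).symm
  rw [SemidirectProduct.card, hDX] at h1
  exact Nat.eq_of_mul_eq_mul_left Nat.card_pos h1

theorem finite_X : Finite (D ⋊[α] H) := Finite.of_equiv _ SemidirectProduct.equivProd.symm

/-- The k(GV) theorem for the semidirect product. -/
theorem class_le_X (h : MainKGV.{u}) (hD : IsPGroup p D) (hH : ¬ p ∣ Nat.card H)
    (hα : ∀ h, (∃ d : D, α h = MulAut.conj d) → h = 1) (K : Subgroup (D ⋊[α] H)) [K.Normal]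
    (hK : K ≤ (frattini (DX α)).map (DX α).subtype) :
    Nat.card (ConjClasses ((D ⋊[α] H) ⧸ K)) ≤ K.relIndex (DX α) := by
  have := finite_X (α := α)
  refine class_le h (p := p) (DX α) K (hD.of_equiv (eX α)) ?_ (centralizer_DX α hα) hK
  rw [index_DX]
  exact hH

theorem sum_le (h : MainKGV.{u}) (hD : IsPGroup p D) (hH : ¬ p ∣ Nat.card H)
    (hα : ∀ h, (∃ d : D, α h = MulAut.conj d) → h = 1) (S : Finset (IrrCharacter D))
    (hS : ∀ ζ, ζ ∈ S) :
    ∑ ζ ∈ S, Nat.card (ConjClasses (stabH α (ζ : D → ℂ))) *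
      Nat.card (stabH α (ζ : D → ℂ)) ≤ Nat.card D * Nat.card H := by
  classical
  have := finite_X (α := α)
  haveI := finite_irr (G := D ⋊[α] H)
  rw [← countX α (fun _ => True) (coprime_card hD hH) S fun ζ => by simp [hS]]
  refine Nat.mul_le_mul_right _ ?_
  refine (Nat.card_le_card_of_injective Subtype.val Subtype.val_injective).trans ?_
  rw [card_irr]
  have h1 := class_le_X h hD hH hα ⊥ bot_le
  rw [conjClasses_congr (QuotientGroup.quotientBot (G := D ⋊[α] H)), Subgroup.relIndex_bot_left]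
    at h1
  rwa [Nat.card_congr (eX α).toEquiv]

theorem sum_lin_le (h : MainKGV.{u}) (hD : IsPGroup p D) (hH : ¬ p ∣ Nat.card H)
    (hα : ∀ h, (∃ d : D, α h = MulAut.conj d) → h = 1) (S : Finset (IrrCharacter D))
    (hS : ∀ ζ, ζ ∈ S ↔ (ζ : D → ℂ) 1 = 1) :
    ∑ ζ ∈ S, Nat.card (ConjClasses (stabH α (ζ : D → ℂ))) *
      Nat.card (stabH α (ζ : D → ℂ)) ≤ (commutator D).index * Nat.card H := by
  classical
  have := finite_X (α := α)
  haveI := finite_irr (G := D ⋊[α] H)
  rw [← countX α (fun z => z = 1) (coprime_card hD hH) S hS]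
  refine Nat.mul_le_mul_right _ ?_
  have hDX : IsPGroup p (DX α) := hD.of_equiv (eX α)
  let K : Subgroup (D ⋊[α] H) := (commutator (DX α)).map (DX α).subtype
  have hKn : K.Normal := inferInstance
  have hKD : K ≤ DX α := Subgroup.map_subtype_le _
  have h1 := class_le_X h hD hH hα K (Subgroup.map_mono (S0012.result p hDX).1)
  have h2 : K.relIndex (DX α) = (commutator D).index := by
    have e1 : K.subgroupOf (DX α) = commutator (DX α) :=
      Subgroup.comap_map_eq_self_of_injective (DX α).subtype_injective _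
    have e2 : (commutator D).map ((eX α : D ≃* DX α) : D →* DX α) = commutator (DX α) := by
      have e3 : (⊤ : Subgroup D).map ((eX α : D ≃* DX α) : D →* DX α) = ⊤ :=
        Subgroup.map_top_of_surjective _ (eX α).surjective
      rw [commutator_def, Subgroup.map_commutator, commutator_def, e3]
    rw [Subgroup.relIndex, e1, ← e2, Subgroup.index_map_equiv]
  rw [← h2]
  refine le_trans ?_ h1
  rw [← card_over_one]
  have hover : ∀ χ : IrrCharacter (D ⋊[α] H), (∃ θ ∈ {θ : IrrCharacter (DX α) |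
      (θ : DX α → ℂ) 1 = 1}, Over (DX α).subtype (χ : (D ⋊[α] H) → ℂ) (θ : DX α → ℂ)) →
      Over K.subtype (χ : (D ⋊[α] H) → ℂ) (1 : K → ℂ) := by
    rintro χ ⟨θ, hθ, ho⟩
    letI := Fintype.ofFinite K
    have e1 : K.subtype = (DX α).subtype.comp (Subgroup.inclusion hKD) := rfl
    rw [e1, over_comp_iff _ _ (isIrr_isCharacter χ.2) (one_isIrr K)]
    refine ⟨θ, θ.2, ho, ?_⟩
    obtain ⟨f, hf⟩ := Characters.Linear.exists_hom_of_isIrrCharacter θ.2 hθ
    rw [over_iff]
    have e2 : (θ : DX α → ℂ) ∘ Subgroup.inclusion hKD = (1 : K → ℂ) := by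
      funext k
      obtain ⟨y, hy, hyk⟩ := k.2
      have e3 : Subgroup.inclusion hKD k = y := Subtype.ext hyk.symm
      rw [Function.comp_apply, e3, hf]
      have h4 : y ∈ f.ker := Abelianization.commutator_subset_ker f hy
      rw [MonoidHom.mem_ker] at h4
      change ((f y : ℂˣ) : ℂ) = 1
      rw [h4, Units.val_one]
    rw [e2, classInner_irr_self (one_isIrr K)]
    exact one_ne_zero
  refine Nat.card_le_card_of_injective (fun χ => ⟨χ.1, hover χ.1 χ.2⟩) fun χ χ' hχ => ?_
  have h3 : χ.1 = χ'.1 := congrArg (fun z : {χ : IrrCharacter (D ⋊[α] H) //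
    Over K.subtype (χ : (D ⋊[α] H) → ℂ) (1 : K → ℂ)} => z.1) hχ
  exact Subtype.ext h3

end X

end Cfsg.Agent.H716.KGV
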