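import Mathlib
import Cfsg.Agent.H716.KGV.Cliff
import Cfsg.Agent.H716.KGV.Comp
import Cfsg.Agent.H716.KGV.Sum

/-!
# The number of the characters over a set of characters of `D C(D)`

`D` is a normal `p`-subgroup of `G`, `N = D C_G(D)`, `T ≥ N` with `|T : N|` prime to `p`, `Ω` a
set of irreducible characters of `N` which is stable under `T` and such that an element carrying
a member of `Ω` to a member of `Ω` lies in `T`; `z` is an injective map of `Ω` to the irreducible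
characters of `D` such that `z θ` is a constituent of the homogeneous restriction of `θ`.
-/

set_option autoImplicit false
set_option linter.style.haveILetI false
set_option linter.unusedSectionVars false
open Cfsg

namespace Cfsg.Agent.H716.KGV

open Cfsg.Agent.Characters.Core Cfsg.Agent.Characters.Clifford
open Cfsg.Agent.H672 hiding inertia mem_inertia le_inertia
open Cfsg.Agent.H672.RM Cfsg.Agent.OddOrderCharacters Cfsg.Agent.OddOrderCharacters.NormalInduced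
open Cfsg.Agent.OddOrderCharacters.PF9.CliffGen (inertia mem_inertia le_inertia)
open Cfsg.Agent.H644.KGV
open Subgroup
open scoped ComplexConjugate

universe u v

variable {G : Type u} [Group G] [Finite G]

/-- Proportional irreducible characters are equal. -/
theorem eq_of_prop {ζ ζ' : IrrCharacter G}
    (h : ∀ y, (ζ' : G → ℂ) y * (ζ : G → ℂ) 1 = (ζ : G → ℂ) y * (ζ' : G → ℂ) 1) : ζ = ζ' := by
  classical
  letI := Fintype.ofFinite G
  by_contra hne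
  have hne' : (ζ' : G → ℂ) ≠ (ζ : G → ℂ) := fun e => hne (Subtype.ext e.symm)
  have h1 : (ζ : G → ℂ) 1 ≠ 0 := isIrr_apply_one_ne_zero ζ.2
  have h2 : (ζ' : G → ℂ) 1 ≠ 0 := isIrr_apply_one_ne_zero ζ'.2
  have h3 : (ζ' : G → ℂ) = ((ζ' : G → ℂ) 1 / (ζ : G → ℂ) 1) • (ζ : G → ℂ) := by
    funext y
    rw [Pi.smul_apply, smul_eq_mul, div_mul_eq_mul_div, eq_div_iff h1, h y, mul_comm]
  have h4 : classInner (ζ' : G → ℂ) (ζ : G → ℂ) = 0 := by
    rw [classInner_irr ζ'.2 ζ.2, if_neg hne']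
  rw [h3, classInner_smul_left, classInner_irr ζ.2 ζ.2, if_pos rfl, mul_one, div_eq_zero_iff] at h4
  exact h4.elim h2 h1

/-- The stabilizer of `θ` corresponds to the stabilizer of `z θ`. -/
theorem mem_inertia_iff_stabH {N : Subgroup G} [hN : N.Normal] (D : Subgroup G) [hDn : D.Normal]
    (hDN : D ≤ N) {H : Type u} [Group H] (α : H →* MulAut D) {g : G} {h : H} {d : D}
    (hg : (MulAut.conjNormal g : MulAut D) = MulAut.conj d * α h)
    (Ω : Set (IrrCharacter N)) (z : IrrCharacter N → IrrCharacter D)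
    (hinj : ∀ θ ∈ Ω, ∀ θ' ∈ Ω, z θ = z θ' → θ = θ')
    (hres : ∀ θ ∈ Ω, ∀ (y : D) (y' : N), (y' : G) = y →
      (θ : N → ℂ) y' * (z θ : D → ℂ) 1 = (θ : N → ℂ) 1 * (z θ : D → ℂ) y)
    (hst : ∀ θ ∈ Ω, ∀ θ' : IrrCharacter N, (θ' : N → ℂ) = conjFn N (θ : N → ℂ) g → θ' ∈ Ω)
    {θ : IrrCharacter N} (hθ : θ ∈ Ω) :
    g ∈ inertia N (θ : N → ℂ) ↔ h ∈ stabH α (z θ : D → ℂ) := by
  have h1 : (θ : N → ℂ) 1 ≠ 0 := isIrr_apply_one_ne_zero θ.2
  have key : ∀ y : D, (z θ : D → ℂ) (α h y) * (θ : N → ℂ) 1 =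
      conjFn N (θ : N → ℂ) g ⟨y, hDN y.2⟩ * (z θ : D → ℂ) 1 := by
    intro y
    have e1 : (z θ : D → ℂ) ((MulAut.conjNormal g : MulAut D) y) = (z θ : D → ℂ) (α h y) := by
      rw [hg]
      exact isIrr_isClassFunction (z θ).2 _ _
    have e2 := hres θ hθ ((MulAut.conjNormal g : MulAut D) y)
      ⟨g * y * g⁻¹, hN.conj_mem _ (hDN y.2) g⟩ (MulAut.conjNormal_apply g y).symm
    rw [e1] at e2
    rw [conjFn_apply, mul_comm, ← e2]
  rw [mem_inertia, mem_stabH]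
  constructor
  · intro h2 y
    have h3 := key y
    rw [h2, hres θ hθ y ⟨y, hDN y.2⟩ rfl, mul_comm] at h3
    exact mul_left_cancel₀ h1 h3
  · intro h2
    have hmem : (⟨conjFn N (θ : N → ℂ) g, IndRes.isIrr_conjFn N θ.2 g⟩ : IrrCharacter N) ∈ Ω :=
      hst θ hθ _ rfl
    set θ' : IrrCharacter N := ⟨conjFn N (θ : N → ℂ) g, IndRes.isIrr_conjFn N θ.2 g⟩ with hθ'
    have hv : ∀ n, (θ' : N → ℂ) n = conjFn N (θ : N → ℂ) g n := fun n => rfl
    have hone : (θ' : N → ℂ) 1 = (θ : N → ℂ) 1 := by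
      rw [hv, conjFn_apply]
      refine congrArg (θ : N → ℂ) (Subtype.ext ?_)
      change g * ((1 : N) : G) * g⁻¹ = 1
      rw [OneMemClass.coe_one, mul_one, mul_inv_cancel]
    have hz : z θ = z θ' := by
      refine eq_of_prop fun y => ?_
      have e1 := hres θ' hmem y ⟨y, hDN y.2⟩ rfl
      have e2 := key y
      rw [h2 y, ← hv] at e2
      rw [hone] at e1
      apply mul_left_cancel₀ h1
      calc (θ : N → ℂ) 1 * ((z θ' : D → ℂ) y * (z θ : D → ℂ) 1)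
          = ((θ : N → ℂ) 1 * (z θ' : D → ℂ) y) * (z θ : D → ℂ) 1 := by ring
        _ = ((θ' : N → ℂ) ⟨y, hDN y.2⟩ * (z θ : D → ℂ) 1) * (z θ' : D → ℂ) 1 := by
            rw [← e1]; ring
        _ = (θ : N → ℂ) 1 * ((z θ : D → ℂ) y * (z θ' : D → ℂ) 1) := by rw [← e2]; ring
    exact congrArg Subtype.val (hinj θ hθ θ' hmem hz).symm

theorem card_eq_of_surj {N T : Subgroup G} (hNT : N ≤ T) {H : Type v} [Group H] (π : T →* H)
    (hπ : Function.Surjective π) (hk : π.ker = N.subgroupOf T) :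
    Nat.card T = Nat.card N * Nat.card H := by
  rw [← Nat.card_congr (QuotientGroup.quotientKerEquivOfSurjective π hπ).toEquiv,
    ← Nat.card_congr (Subgroup.subgroupOfEquivOfLe hNT).toEquiv, mul_comm, ← hk]
  exact Subgroup.card_eq_card_quotient_mul_card_subgroup _

theorem count_le {p : ℕ} [hp : Fact p.Prime] (D T N : Subgroup G) [hDn : D.Normal]
    [hN : N.Normal] (hD : IsPGroup p D) (hND : N = D ⊔ centralizer (D : Set G))
    (hNT : N ≤ T) (hidx : ¬ p ∣ N.relIndex T)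
    (Ω : Set (IrrCharacter N))
    (hst : ∀ g ∈ T, ∀ θ ∈ Ω, ∀ θ' : IrrCharacter N, (θ' : N → ℂ) = conjFn N (θ : N → ℂ) g → θ' ∈ Ω)
    (htr : ∀ (g : G), ∀ θ ∈ Ω, ∀ θ' ∈ Ω, (θ' : N → ℂ) = conjFn N (θ : N → ℂ) g → g ∈ T)
    (z : IrrCharacter N → IrrCharacter D)
    (hinj : ∀ θ ∈ Ω, ∀ θ' ∈ Ω, z θ = z θ' → θ = θ')
    (hres : ∀ θ ∈ Ω, ∀ (y : D) (y' : N), (y' : G) = y →
      (θ : N → ℂ) y' * (z θ : D → ℂ) 1 = (θ : N → ℂ) 1 * (z θ : D → ℂ) y) :
    ∃ (H : Type u) (_ : Group H) (_ : Finite H) (α : H →* MulAut D),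
      ¬ p ∣ Nat.card H ∧ (∀ h : H, (∃ d : D, α h = MulAut.conj d) → h = 1) ∧
      ∀ S : Finset (IrrCharacter D), (∀ θ ∈ Ω, z θ ∈ S) →
        Nat.card {χ : IrrCharacter G // ∃ θ ∈ Ω, Over N.subtype (χ : G → ℂ) (θ : N → ℂ)} *
          Nat.card H ≤ ∑ ζ ∈ S, Nat.card (ConjClasses (stabH α (ζ : D → ℂ))) *
            Nat.card (stabH α (ζ : D → ℂ)) := by
  classical
  have hDN : D ≤ N := by rw [hND]; exact le_sup_left
  obtain ⟨H, iH, fH, π, α, hπ, hk, hcard, hα, hdec⟩ :=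
    exists_comp (p := p) D T hD (hND ▸ hNT) (hND ▸ hidx)
  rw [← hND] at hk
  refine ⟨H, iH, fH, α, hcard, hα, fun S hS => ?_⟩
  haveI := finite_irr (G := N)
  letI := Fintype.ofFinite (IrrCharacter N)
  let F : IrrCharacter D → ℕ := fun ζ => Nat.card (ConjClasses (stabH α (ζ : D → ℂ))) *
    Nat.card (stabH α (ζ : D → ℂ))
  have h1 : ∀ θ ∈ Ω, nOver N (θ : N → ℂ) * Nat.card (inertia N (θ : N → ℂ)) ≤
      Nat.card N * F (z θ) := by
    intro θ hθ
    have hIT : inertia N (θ : N → ℂ) ≤ T := inertia_le_of htr hθ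
    have hiff : ∀ t : T, (t : G) ∈ inertia N (θ : N → ℂ) ↔ π t ∈ stabH α (z θ : D → ℂ) := by
      intro t
      obtain ⟨d, hd⟩ := hdec t
      exact mem_inertia_iff_stabH D hDN α hd Ω z hinj hres (hst t t.2) hθ
    let f : inertia N (θ : N → ℂ) →* stabH α (z θ : D → ℂ) :=
      (π.comp (Subgroup.inclusion hIT)).codRestrict _ fun x => (hiff (Subgroup.inclusion hIT x)).1 x.2
    have hf : Function.Surjective f := by
      rintro ⟨x, hx⟩
      obtain ⟨t, rfl⟩ := hπ x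
      exact ⟨⟨t, (hiff t).2 hx⟩, Subtype.ext rfl⟩
    have hfk : f.ker = N.subgroupOf (inertia N (θ : N → ℂ)) := by
      ext x
      rw [MonoidHom.mem_ker, mem_subgroupOf, Subtype.ext_iff]
      change π (Subgroup.inclusion hIT x) = 1 ↔ _
      rw [← MonoidHom.mem_ker, hk, mem_subgroupOf]
      rfl
    have h2 := nOver_le N θ.2 _ rfl f hf hfk
    have h3 := card_inertia N θ.2 _ rfl f hf hfk
    rw [h3]
    calc nOver N (θ : N → ℂ) * (Nat.card N * Nat.card (stabH α (z θ : D → ℂ)))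
        ≤ Nat.card (ConjClasses (stabH α (z θ : D → ℂ))) *
          (Nat.card N * Nat.card (stabH α (z θ : D → ℂ))) := Nat.mul_le_mul_right _ h2
      _ = Nat.card N * F (z θ) := by ring
  have h2 := count_over N T Ω hst htr (Finset.univ.filter (· ∈ Ω)) fun θ => by simp
  rw [card_eq_of_surj hNT π hπ hk] at h2
  have h3 : ∑ θ ∈ Finset.univ.filter (· ∈ Ω), nOver N (θ : N → ℂ) *
      Nat.card (inertia N (θ : N → ℂ)) ≤ Nat.card N * ∑ ζ ∈ S, F ζ := by
    calc _ ≤ ∑ θ ∈ Finset.univ.filter (· ∈ Ω), Nat.card N * F (z θ) :=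
          Finset.sum_le_sum fun θ hθ => h1 θ (Finset.mem_filter.1 hθ).2
      _ = Nat.card N * ∑ ζ ∈ (Finset.univ.filter (· ∈ Ω)).image z, F ζ := by
          rw [← Finset.mul_sum, Finset.sum_image]
          intro θ hθ θ' hθ' e
          rw [Finset.mem_coe, Finset.mem_filter] at hθ hθ'
          exact hinj θ hθ.2 θ' hθ'.2 e
      _ ≤ Nat.card N * ∑ ζ ∈ S, F ζ := by
          refine Nat.mul_le_mul_left _ (Finset.sum_le_sum_of_subset ?_)
          intro ζ hζ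
          obtain ⟨θ, hθ, rfl⟩ := Finset.mem_image.1 hζ
          exact hS θ (Finset.mem_filter.1 hθ).2
  rw [← h2] at h3
  have h4 : Nat.card N * (Nat.card {χ : IrrCharacter G // ∃ θ ∈ Ω,
      Over N.subtype (χ : G → ℂ) (θ : N → ℂ)} * Nat.card H) ≤ Nat.card N * ∑ ζ ∈ S, F ζ := by
    rw [mul_left_comm]
    exact h3
  exact Nat.le_of_mul_le_mul_left h4 Nat.card_pos

/-- **At most `|D|` characters lie over `Ω`.** -/
theorem count_le_card (h : MainKGV.{u}) {p : ℕ} [hp : Fact p.Prime] (D T N : Subgroup G)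
    [hDn : D.Normal] [hN : N.Normal] (hD : IsPGroup p D)
    (hND : N = D ⊔ centralizer (D : Set G))
    (hNT : N ≤ T) (hidx : ¬ p ∣ N.relIndex T)
    (Ω : Set (IrrCharacter N))
    (hst : ∀ g ∈ T, ∀ θ ∈ Ω, ∀ θ' : IrrCharacter N, (θ' : N → ℂ) = conjFn N (θ : N → ℂ) g → θ' ∈ Ω)
    (htr : ∀ (g : G), ∀ θ ∈ Ω, ∀ θ' ∈ Ω, (θ' : N → ℂ) = conjFn N (θ : N → ℂ) g → g ∈ T)
    (z : IrrCharacter N → IrrCharacter D)
    (hinj : ∀ θ ∈ Ω, ∀ θ' ∈ Ω, z θ = z θ' → θ = θ')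
    (hres : ∀ θ ∈ Ω, ∀ (y : D) (y' : N), (y' : G) = y →
      (θ : N → ℂ) y' * (z θ : D → ℂ) 1 = (θ : N → ℂ) 1 * (z θ : D → ℂ) y) :
    Nat.card {χ : IrrCharacter G // ∃ θ ∈ Ω, Over N.subtype (χ : G → ℂ) (θ : N → ℂ)} ≤
      Nat.card D := by
  classical
  obtain ⟨H, iH, fH, α, hcard, hα, hS⟩ := count_le D T N hD hND hNT hidx Ω hst htr z hinj hres
  haveI := finite_irr (G := D)
  letI := Fintype.ofFinite (IrrCharacter D)
  have h1 := hS Finset.univ fun θ _ => Finset.mem_univ _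
  have h2 := sum_le h hD hcard hα Finset.univ fun ζ => Finset.mem_univ ζ
  exact Nat.le_of_mul_le_mul_right (h1.trans h2) Nat.card_pos

/-- **At most `|D : D'|` characters lie over `Ω` if all `z θ` are linear.** -/
theorem count_lin_le (h : MainKGV.{u}) {p : ℕ} [hp : Fact p.Prime] (D T N : Subgroup G)
    [hDn : D.Normal] [hN : N.Normal] (hD : IsPGroup p D)
    (hND : N = D ⊔ centralizer (D : Set G))
    (hNT : N ≤ T) (hidx : ¬ p ∣ N.relIndex T)
    (Ω : Set (IrrCharacter N))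
    (hst : ∀ g ∈ T, ∀ θ ∈ Ω, ∀ θ' : IrrCharacter N, (θ' : N → ℂ) = conjFn N (θ : N → ℂ) g → θ' ∈ Ω)
    (htr : ∀ (g : G), ∀ θ ∈ Ω, ∀ θ' ∈ Ω, (θ' : N → ℂ) = conjFn N (θ : N → ℂ) g → g ∈ T)
    (z : IrrCharacter N → IrrCharacter D)
    (hinj : ∀ θ ∈ Ω, ∀ θ' ∈ Ω, z θ = z θ' → θ = θ')
    (hres : ∀ θ ∈ Ω, ∀ (y : D) (y' : N), (y' : G) = y →
      (θ : N → ℂ) y' * (z θ : D → ℂ) 1 = (θ : N → ℂ) 1 * (z θ : D → ℂ) y)
    (hlin : ∀ θ ∈ Ω, (z θ : D → ℂ) 1 = 1) :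
    Nat.card {χ : IrrCharacter G // ∃ θ ∈ Ω, Over N.subtype (χ : G → ℂ) (θ : N → ℂ)} ≤
      (commutator D).index := by
  classical
  obtain ⟨H, iH, fH, α, hcard, hα, hS⟩ := count_le D T N hD hND hNT hidx Ω hst htr z hinj hres
  haveI := finite_irr (G := D)
  letI := Fintype.ofFinite (IrrCharacter D)
  have h1 := hS (Finset.univ.filter fun ζ : IrrCharacter D => (ζ : D → ℂ) 1 = 1) fun θ hθ =>
    Finset.mem_filter.2 ⟨Finset.mem_univ _, hlin θ hθ⟩
  have h2 := sum_lin_le h hD hcard hα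
    (Finset.univ.filter fun ζ : IrrCharacter D => (ζ : D → ℂ) 1 = 1) fun ζ => by simp
  exact Nat.le_of_mul_le_mul_right (h1.trans h2) Nat.card_pos

end Cfsg.Agent.H716.KGV
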