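import Cfsg.Agent.S4714
import Cfsg.Agent.S0971
import Cfsg.Agent.S0973
import Cfsg.Agent.S4434
import Cfsg.Agent.S4437
import Cfsg.Agent.S0908
import Cfsg.Agent.H716.KGV.Count

/-!
# Blocks with a normal defect group

* `exists_z` : the members of a block of `K = D C_K(D)` with defect group `D` correspond to the
  irreducible characters of `D`;
* `exists_root` : every member of `B` lies over a root of `B`.
-/

set_option autoImplicit false
set_option linter.style.haveILetI false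
set_option linter.unusedSectionVars false
open Cfsg

namespace Cfsg.Agent.H716.KGV

open Cfsg.Agent.Characters.Core Cfsg.Agent.Characters.Clifford
open Cfsg.Agent.H672 hiding inertia mem_inertia le_inertia
open Cfsg.Agent.H672.RM Cfsg.Agent.OddOrderCharacters Cfsg.Agent.OddOrderCharacters.NormalInduced
open Cfsg.Agent.OddOrderCharacters.PF9.CliffGen (inertia mem_inertia le_inertia)
open Cfsg.Agent.Blocks.Covering
open Cfsg.Agent.Blocks.Basic (mem_blockOf_self isPBlock_blockOf
  isPGroup_of_isDefectGroup)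
open Subgroup
open scoped ComplexConjugate

universe u v

/-- The members of a block have at least the exponent of the block. -/
theorem defect_le {K : Type u} [Group K] [Finite K] (p : ℕ) [hp : Fact p.Prime]
    {M : Ideal Cfsg.AlgInt} (hM : Cfsg.IsPModular p M) {b : Set (IrrCharacter K)}
    (hb : IsPBlock M b) {D : Subgroup K} (hD : IsDefectGroup p M b D) {χ : IrrCharacter K}
    (hχ : χ ∈ b) : (Nat.card K).factorization p ≤
      (Nat.card D).factorization p + (charDegree (χ : K → ℂ)).factorization p := by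
  have h1 := S0908.result p M hM b hb D hD
  have h2 : sInf ((fun ψ : IrrCharacter K => (charDegree (ψ : K → ℂ)).factorization p) '' b) ≤
      (charDegree (χ : K → ℂ)).factorization p := Nat.sInf_le ⟨χ, hχ, rfl⟩
  have h3 : (Nat.card D).factorization p = blockDefect p b := by
    rw [h1, hp.out.factorization_pow, Finsupp.single_eq_same]
  rw [h3]
  unfold blockDefect
  omega

/-- The members of height zero. -/
theorem defect_of_height_zero {K : Type u} [Group K] [Finite K] (p : ℕ) [hp : Fact p.Prime]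
    {M : Ideal Cfsg.AlgInt} (hM : Cfsg.IsPModular p M) {b : Set (IrrCharacter K)}
    (hb : IsPBlock M b) {D : Subgroup K} (hD : IsDefectGroup p M b D) {χ : IrrCharacter K}
    (hχ : χ ∈ b) (h0 : blockHeight p b (χ : K → ℂ) = 0) : 
    (Nat.card D).factorization p + (charDegree (χ : K → ℂ)).factorization p =
      (Nat.card K).factorization p := by
  have h1 := S0908.result p M hM b hb D hD
  have h2 : sInf ((fun ψ : IrrCharacter K => (charDegree (ψ : K → ℂ)).factorization p) '' b) ≤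
      (charDegree (χ : K → ℂ)).factorization p := Nat.sInf_le ⟨χ, hχ, rfl⟩
  have h3 : (Nat.card D).factorization p = blockDefect p b := by
    rw [h1, hp.out.factorization_pow, Finsupp.single_eq_same]
  have h4 : (charDegree (χ : K → ℂ)).factorization p ≤ (Nat.card K).factorization p :=
    (Nat.factorization_le_iff_dvd (charDegree_pos χ.2).ne' Nat.card_pos.ne').2
      (Blocks.CentralProduct.degree_dvd_card χ.2 (coe_charDegree χ.2).symm) p
  unfold blockHeight at h0
  rw [h3]
  unfold blockDefect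
  omega

/-- The members of a block of `K = D C_K(D)` with defect group `D`. -/
theorem exists_z {K : Type u} [Group K] [Finite K] (p : ℕ) [hp : Fact p.Prime]
    {M : Ideal Cfsg.AlgInt} (hM : Cfsg.IsPModular p M) {b : Set (IrrCharacter K)}
    (hb : IsPBlock M b) {D : Subgroup K} [D.Normal] (hD : IsDefectGroup p M b D)
    (hK : D ⊔ centralizer (D : Set K) = ⊤) :
    ∃ (c : ℕ) (z : IrrCharacter K → IrrCharacter D), 0 < c ∧
      (Nat.card K).factorization p ≤ (Nat.card D).factorization p + c.factorization p ∧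
      (∀ θ ∈ b, ∀ θ' ∈ b, z θ = z θ' → θ = θ') ∧
      (∀ θ ∈ b, charDegree (θ : K → ℂ) = charDegree (z θ : D → ℂ) * c) ∧
      ∀ θ ∈ b, ∀ y : D, (θ : K → ℂ) y * (z θ : D → ℂ) 1 =
        (θ : K → ℂ) 1 * (z θ : D → ℂ) y := by
  classical
  have hprime : M.IsPrime := hM.2.1.isPrime
  have hDp : IsPGroup p D := isPGroup_of_isDefectGroup hD
  obtain ⟨bb, ⟨φ, rfl⟩, hbb, -⟩ := S4434.result p M hM D hDp b hb
  let χ : IrrCharacter K := ⟨(φ : K ⧸ D → ℂ) ∘ (QuotientGroup.mk' D),
    isIrr_comp (QuotientGroup.mk' D) (QuotientGroup.mk'_surjective D) φ.2⟩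
  have hχv : ∀ x, (χ : K → ℂ) x = (φ : K ⧸ D → ℂ) (QuotientGroup.mk' D x) := fun x => rfl
  have hχ : χ ∈ b := hbb φ (mem_blockOf_self φ) χ rfl
  have hχD : ∀ y ∈ D, (χ : K → ℂ) y = (χ : K → ℂ) 1 := by
    intro y hy
    rw [hχv, hχv, map_one]
    exact congrArg (φ : K ⧸ D → ℂ) ((QuotientGroup.eq_one_iff y).2 hy)
  have h1 := (S4714.result p M hM D hDp hK b hb hD χ hχ hχD).1
  have h2 : ∀ θ : IrrCharacter K, ∃ ζ : IrrCharacter D, θ ∈ b →
      (∀ (y : D) (x : K), ¬ p ∣ orderOf x → Commute (y : K) x →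
        (θ : K → ℂ) ((y : K) * x) = (ζ : D → ℂ) y * (χ : K → ℂ) x) ∧
        (∀ z : K, (∀ y : K, Cfsg.IsPPart p z y → y ∉ D) → (θ : K → ℂ) z = 0) := by
    intro θ
    by_cases hθ : θ ∈ b
    · obtain ⟨ζ, hζ⟩ := (h1 θ).1 hθ
      exact ⟨ζ, fun _ => hζ⟩
    · exact ⟨⟨1, isIrr_one⟩, fun h => absurd h hθ⟩
  choose z hz using h2
  have hz1 : ∀ θ ∈ b, ∀ y : D, (θ : K → ℂ) y = (z θ : D → ℂ) y * (χ : K → ℂ) 1 := by
    intro θ hθ y
    have h3 := (hz θ hθ).1 y 1 (by rw [orderOf_one]; exact hp.out.not_dvd_one)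
      (Commute.one_right _)
    rwa [mul_one] at h3
  refine ⟨charDegree (χ : K → ℂ), z, charDegree_pos χ.2, defect_le p hM hb hD hχ, ?_, ?_, ?_⟩
  · intro θ hθ θ' hθ' e
    have e1 := hz θ hθ
    have e2 := hz θ' hθ'
    rw [← e] at e2
    exact Subtype.ext (S4714.eq_of_formula p D e1 e2)
  · intro θ hθ
    apply charDegree_of_eq
    push_cast
    rw [coe_charDegree (z θ).2, coe_charDegree χ.2]
    exact hz1 θ hθ 1
  · intro θ hθ y
    have e1 := hz1 θ hθ y
    have e2 := hz1 θ hθ 1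
    rw [OneMemClass.coe_one] at e2
    rw [e1, e2]
    ring

/-- **The root of `B`**: every member of `B` lies over a member of `b`. -/
theorem exists_root {G : Type u} [Group G] [Finite G] (p : ℕ) [hp : Fact p.Prime]
    {M : Ideal Cfsg.AlgInt} (hM : Cfsg.IsPModular p M) {B : Set (IrrCharacter G)}
    (hB : IsPBlock M B) {D : Subgroup G} [hDn : D.Normal] (hD : IsDefectGroup p M B D)
    (N : Subgroup G) [hNn : N.Normal] (hN : N = D ⊔ centralizer (D : Set G)) :
    ∃ b : Set (IrrCharacter N), IsPBlock M b ∧ IsDefectGroup p M b (D.subgroupOf N) ∧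
      IsInducedBlock M N b B ∧
      ∀ χ ∈ B, ∃ θ ∈ b, Over N.subtype (χ : G → ℂ) (θ : N → ℂ) := by
  classical
  subst hN
  letI := Fintype.ofFinite G
  letI := Fintype.ofFinite ↥(D ⊔ centralizer (D : Set G))
  have hprime : M.IsPrime := hM.2.1.isPrime
  have hDp : IsPGroup p D := isPGroup_of_isDefectGroup hD
  obtain ⟨⟨b, hb1, hb2⟩, hconj⟩ := S0973.result p M hM B hB D hD
  refine ⟨b, hb2.1, hb1, hb2, fun χ hχ => ?_⟩
  obtain ⟨θ, hθ, ho⟩ := exists_under (f := (D ⊔ centralizer (D : Set G)).subtype) χ.2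
  have h1 : IsPBlock M (blockOf M θ) := isPBlock_blockOf ⟨θ, hθ⟩
  have h2 := (S0971.result p M hM D hDp (blockOf M θ) h1).2 B hB
    ⟨χ, hχ, ⟨θ, hθ⟩, mem_blockOf_self ⟨θ, hθ⟩,
      (over_iff (D ⊔ centralizer (D : Set G)).subtype (χ : G → ℂ) θ).1 ho⟩
  obtain ⟨n, -, hn⟩ := hconj (blockOf M θ) b h2 hb2
  obtain ⟨θ', hθ', h3⟩ := hn ⟨θ, hθ⟩ (mem_blockOf_self ⟨θ, hθ⟩)
  refine ⟨θ', hθ', ?_⟩
  have h4 : (θ' : ↥(D ⊔ centralizer (D : Set G)) → ℂ) =
      conjFn (D ⊔ centralizer (D : Set G)) θ n := by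
    funext x
    rw [h3 x (hNn.conj_mem _ x.2 n), conjFn_apply]
  rw [h4]
  exact over_conj _ χ ho n

/-- The stabilizer of a set of characters of a normal subgroup which is a block. -/
def stabB {G : Type u} [Group G] {M : Ideal Cfsg.AlgInt} (hM : M.IsPrime)
    (N : Subgroup G) [N.Normal] (b : Set (IrrCharacter N)) (hb : IsPBlock M b) : Subgroup G where
  carrier := {g | ∀ θ ∈ b, conjIrr N g θ ∈ b}
  one_mem' := fun θ hθ => by rw [conjIrr_one]; exact hθ
  mul_mem' := by
    intro g h hg hh θ hθ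
    rw [← conjIrr_conjIrr]
    exact hh _ (hg θ hθ)
  inv_mem' := by
    intro g hg θ hθ
    refine mem_of_sameBlock hM hb hθ ?_
    have h1 := sameBlock_of_mem hM hb (hg θ hθ) hθ
    have h2 := sameBlock_conjIrr N g⁻¹ h1
    rwa [conjIrr_conjIrr, mul_inv_cancel, conjIrr_one] at h2

theorem mem_stabB {G : Type u} [Group G] {M : Ideal Cfsg.AlgInt} {hM : M.IsPrime}
    {N : Subgroup G} [N.Normal] {b : Set (IrrCharacter N)} {hb : IsPBlock M b} {g : G} :
    g ∈ stabB hM N b hb ↔ ∀ θ ∈ b, conjIrr N g θ ∈ b := Iff.rfl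

theorem mem_stabB_of {G : Type u} [Group G] {M : Ideal Cfsg.AlgInt} {hM : M.IsPrime}
    {N : Subgroup G} [N.Normal] {b : Set (IrrCharacter N)} {hb : IsPBlock M b} {g : G}
    {θ : IrrCharacter N} (hθ : θ ∈ b) (h : conjIrr N g θ ∈ b) : g ∈ stabB hM N b hb := by
  intro θ' hθ'
  exact mem_of_sameBlock hM hb h (sameBlock_conjIrr N g (sameBlock_of_mem hM hb hθ hθ'))

theorem conjIrr_eq {G : Type u} [Group G] {N : Subgroup G} [hN : N.Normal] (g : G)
    (θ : IrrCharacter N) : (conjIrr N g θ : N → ℂ) = conjFn N (θ : N → ℂ) g := by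
  funext n
  rw [conjIrr_apply, conjFn_apply]
  rfl

end Cfsg.Agent.H716.KGV
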