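import Cfsg.Agent.H716.KGV.Blk
import Cfsg.Agent.H592.NormalCase

/-!
# `k(B) ≤ |D|` and `k₀(B) ≤ |D : D'|` for a normal defect group `D`

`block_le : MainKGV → ...`.
-/

set_option autoImplicit false
set_option linter.style.haveILetI false
set_option linter.unusedSectionVars false
open Cfsg

namespace Cfsg.Agent.H716.KGV

open Cfsg.Agent.Characters.Core Cfsg.Agent.Characters.Clifford
open Cfsg.Agent.H672 hiding inertia mem_inertia le_inertia
open Cfsg.Agent.H672.RM Cfsg.Agent.OddOrderCharacters Cfsg.Agent.OddOrderCharacters.NormalInduced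
open Cfsg.Agent.OddOrderCharacters.PF9.CliffGen (inertia mem_inertia le_inertia)
open Cfsg.Agent.Blocks.Covering
open Cfsg.Agent.Blocks.Basic (mem_blockOf_self isPBlock_blockOf isPGroup_of_isDefectGroup)
open Cfsg.Agent.H644.KGV
open Subgroup
open scoped ComplexConjugate

universe u v

/-- In `N = D C(D)` the group `D` and its centralizer generate everything. -/
theorem sup_centralizer_top {G : Type u} [Group G] {D N : Subgroup G} [D.Normal]
    (hN : N = D ⊔ centralizer (D : Set G)) :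
    D.subgroupOf N ⊔ centralizer ((D.subgroupOf N : Subgroup N) : Set N) = ⊤ := by
  rw [eq_top_iff]
  rintro ⟨x, hx⟩ -
  have hx' : x ∈ D ⊔ centralizer (D : Set G) := hN ▸ hx
  obtain ⟨y, hy, z, hz, rfl⟩ := Subgroup.mem_sup_of_normal_left.1 hx'
  have hyL : y ∈ N := hN ▸ Subgroup.mem_sup_left hy
  have hzL : z ∈ N := hN ▸ Subgroup.mem_sup_right hz
  have h1 : (⟨y * z, hx⟩ : N) = ⟨y, hyL⟩ * ⟨z, hzL⟩ := rfl
  rw [h1]
  refine mul_mem (Subgroup.mem_sup_left ?_) (Subgroup.mem_sup_right ?_)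
  · rw [Subgroup.mem_subgroupOf]
    exact hy
  · rw [Subgroup.mem_centralizer_iff]
    intro u hu
    apply Subtype.ext
    exact Subgroup.mem_centralizer_iff.1 hz (u : G) (Subgroup.mem_subgroupOf.1 hu)

/-- Transport of irreducible characters. -/
def irrMap {A B : Type u} [Group A] [Group B] (e : B ≃* A) (ζ : IrrCharacter A) : IrrCharacter B :=
  ⟨(ζ : A → ℂ) ∘ e, isIrr_comp e.toMonoidHom e.surjective ζ.2⟩

theorem irrMap_apply {A B : Type u} [Group A] [Group B] (e : B ≃* A) (ζ : IrrCharacter A) (y : B) :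
    (irrMap e ζ : B → ℂ) y = (ζ : A → ℂ) (e y) := rfl

theorem irrMap_injective {A B : Type u} [Group A] [Group B] (e : B ≃* A) :
    Function.Injective (irrMap e) := by
  intro ζ ζ' h
  apply Subtype.ext
  funext x
  have h1 := congrArg (fun f : IrrCharacter B => (f : B → ℂ) (e.symm x)) h
  simp only [irrMap_apply, MulEquiv.apply_symm_apply] at h1
  exact h1

/-- **The count for a block with a normal defect group.** -/
theorem block_le (hkgv : MainKGV.{u}) {G : Type u} [Group G] [Finite G] (p : ℕ) [hp : Fact p.Prime]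
    (M : Ideal Cfsg.AlgInt) (hM : Cfsg.IsPModular p M) (B : Set (Cfsg.IrrCharacter G))
    (hB : Cfsg.IsPBlock M B) (D : Subgroup G) [hDn : D.Normal] (hD : Cfsg.IsDefectGroup p M B D) :
    Nat.card B ≤ Nat.card D ∧ Nat.card {χ : Cfsg.IrrCharacter G //
      χ ∈ B ∧ Cfsg.blockHeight p B (χ : G → ℂ) = 0} ≤ (commutator ↥D).index := by
  classical
  letI := Fintype.ofFinite G
  have hprime : M.IsPrime := hM.2.1.isPrime
  have hDp : IsPGroup p D := isPGroup_of_isDefectGroup hD
  obtain ⟨N, hN⟩ : ∃ N : Subgroup G, N = D ⊔ centralizer (D : Set G) := ⟨_, rfl⟩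
  have hNn : N.Normal := by
    rw [hN]
    infer_instance
  letI := Fintype.ofFinite N
  have hDN : D ≤ N := by rw [hN]; exact le_sup_left
  obtain ⟨b, hb, hbD, hind, hroot⟩ := exists_root p hM hB hD N hN
  -- the stabilizer
  let T := stabB hprime N b hb
  have hT : ∀ g : G, g ∈ T ↔ ∀ θ ∈ b, conjIrr N g θ ∈ b := fun g => mem_stabB
  have hidx : ¬ p ∣ N.relIndex T :=
    (H592.NormalCase.defect_iff p hM D hDp N hN b hb hbD B hind T hT).1 hD
  have hst : ∀ g ∈ T, ∀ θ ∈ b, ∀ θ' : IrrCharacter N,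
      (θ' : N → ℂ) = conjFn N (θ : N → ℂ) g → θ' ∈ b := by
    intro g hg θ hθ θ' h
    have h1 : θ' = conjIrr N g θ := Subtype.ext (by rw [h, conjIrr_eq])
    rw [h1]
    exact (hT g).1 hg θ hθ
  have htr : ∀ (g : G), ∀ θ ∈ b, ∀ θ' ∈ b, (θ' : N → ℂ) = conjFn N (θ : N → ℂ) g → g ∈ T := by
    intro g θ hθ θ' hθ' h
    have h1 : θ' = conjIrr N g θ := Subtype.ext (by rw [h, conjIrr_eq])
    rw [h1] at hθ'
    exact mem_stabB_of hθ hθ'
  have hNT : N ≤ T := by
    intro g hg
    obtain ⟨θ₀, hθ₀⟩ := hb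
    have h0 : θ₀ ∈ b := by
      rw [hθ₀]
      exact mem_blockOf_self θ₀
    refine mem_stabB_of h0 ?_
    have h1 : conjIrr N g θ₀ = θ₀ := by
      apply Subtype.ext
      rw [conjIrr_eq]
      exact mem_inertia.1 (le_inertia (isIrr_isClassFunction θ₀.2) hg)
    rw [h1]
    exact h0
  -- the characters of `D`
  obtain ⟨c, z', hc, hcν, hinj', hdeg', hres'⟩ := exists_z p hM hb hbD (sup_centralizer_top hN)
  let e : D ≃* D.subgroupOf N := (Subgroup.subgroupOfEquivOfLe hDN).symm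
  have he : ∀ y : D, ((e y : N) : G) = y := fun y => rfl
  let z : IrrCharacter N → IrrCharacter D := fun θ => irrMap e (z' θ)
  have hz : ∀ θ y, (z θ : D → ℂ) y = (z' θ : D.subgroupOf N → ℂ) (e y) := fun θ y => rfl
  have hz1 : ∀ θ, (z θ : D → ℂ) 1 = (z' θ : D.subgroupOf N → ℂ) 1 := fun θ => by
    rw [hz, map_one]
  have hinj : ∀ θ ∈ b, ∀ θ' ∈ b, z θ = z θ' → θ = θ' := fun θ hθ θ' hθ' h =>
    hinj' θ hθ θ' hθ' (irrMap_injective e h)
  have hres : ∀ θ ∈ b, ∀ (y : D) (y' : N), (y' : G) = y →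
      (θ : N → ℂ) y' * (z θ : D → ℂ) 1 = (θ : N → ℂ) 1 * (z θ : D → ℂ) y := by
    intro θ hθ y y' hy
    have h1 := hres' θ hθ (e y)
    have h2 : ((e y : D.subgroupOf N) : N) = y' := Subtype.ext (by rw [he, hy])
    rw [h2] at h1
    rw [hz1, hz, h1]
  have hcD : (Nat.card (D.subgroupOf N)) = Nat.card D := Nat.card_congr e.symm.toEquiv
  rw [hcD] at hcν
  constructor
  · refine le_trans ?_ (count_le_card hkgv (p := p) D T N hDp hN hNT hidx b hst htr z hinj hres)
    haveI := finite_irr (G := G)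
    exact Nat.card_le_card_of_injective
      (fun χ : B => (⟨χ.1, hroot χ.1 χ.2⟩ : {χ : IrrCharacter G // ∃ θ ∈ b,
        Over N.subtype (χ : G → ℂ) (θ : N → ℂ)}))
      fun χ χ' h => Subtype.ext (congrArg (fun x => x.1) h)
  · -- height zero
    let Ω : Set (IrrCharacter N) := {θ | θ ∈ b ∧ (z θ : D → ℂ) 1 = 1}
    have hstΩ : ∀ g ∈ T, ∀ θ ∈ Ω, ∀ θ' : IrrCharacter N,
        (θ' : N → ℂ) = conjFn N (θ : N → ℂ) g → θ' ∈ Ω := by
      intro g hg θ hθ θ' h
      have h1 := hst g hg θ hθ.1 θ' h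
      refine ⟨h1, ?_⟩
      have h2 := hdeg' θ hθ.1
      have h3 := hdeg' θ' h1
      have h4 : charDegree (θ' : N → ℂ) = charDegree (θ : N → ℂ) := by
        apply charDegree_of_eq
        rw [coe_charDegree θ.2, h, conjFn_apply]
        refine congrArg (θ : N → ℂ) (Subtype.ext ?_)
        change g * ((1 : N) : G) * g⁻¹ = 1
        rw [OneMemClass.coe_one, mul_one, mul_inv_cancel]
      rw [h4, h2] at h3
      have h5 := Nat.eq_of_mul_eq_mul_right hc h3
      have h6 := hθ.2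
      rw [hz1, ← coe_charDegree (z' θ).2] at h6
      rw [hz1, ← coe_charDegree (z' θ').2, ← h5]
      exact h6
    have htrΩ : ∀ (g : G), ∀ θ ∈ Ω, ∀ θ' ∈ Ω,
        (θ' : N → ℂ) = conjFn N (θ : N → ℂ) g → g ∈ T :=
      fun g θ hθ θ' hθ' h => htr g θ hθ.1 θ' hθ'.1 h
    have hrootΩ : ∀ χ : IrrCharacter G, χ ∈ B ∧ blockHeight p B (χ : G → ℂ) = 0 →
        ∃ θ ∈ Ω, Over N.subtype (χ : G → ℂ) (θ : N → ℂ) := by
      rintro χ ⟨hχ, h0⟩
      obtain ⟨θ, hθ, ho⟩ := hroot χ hχ
      refine ⟨θ, ⟨hθ, ?_⟩, ho⟩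
      have e1 := defect_of_height_zero p hM hB hD hχ h0
      -- Clifford
      have e2 : (inertia N (θ : N → ℂ)).index * charDegree (θ : N → ℂ) ∣
          charDegree (χ : G → ℂ) :=
        index_mul_charDegree_dvd N χ.2 θ.2 ho
      have e3 : T.index ∣ (inertia N (θ : N → ℂ)).index :=
        Subgroup.index_dvd_of_le (inertia_le_of htr hθ)
      have e4 : T.index * (charDegree (z' θ : D.subgroupOf N → ℂ) * c) ∣
          charDegree (χ : G → ℂ) := by
        rw [← hdeg' θ hθ]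
        exact (Nat.mul_dvd_mul_right e3 _).trans e2
      have hz0 := charDegree_pos (z' θ).2
      have hT0 : T.index ≠ 0 := T.index_ne_zero_of_finite
      have e5 := (Nat.factorization_le_iff_dvd
        (mul_ne_zero hT0 (mul_ne_zero hz0.ne' hc.ne')) (charDegree_pos χ.2).ne').2 e4 p
      rw [Nat.factorization_mul hT0 (mul_ne_zero hz0.ne' hc.ne'),
        Nat.factorization_mul hz0.ne' hc.ne', Finsupp.add_apply, Finsupp.add_apply] at e5
      have hr0 : N.relIndex T ≠ 0 := (N.subgroupOf T).index_ne_zero_of_finite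
      have e6 : (Nat.card G).factorization p =
          (Nat.card N).factorization p + T.index.factorization p := by
        rw [← Subgroup.card_mul_index N, ← Subgroup.relIndex_mul_index hNT,
          Nat.factorization_mul Nat.card_pos.ne' (mul_ne_zero hr0 hT0),
          Nat.factorization_mul hr0 hT0, Finsupp.add_apply,
          Finsupp.add_apply, Nat.factorization_eq_zero_of_not_dvd hidx, zero_add]
      have e7 : (charDegree (z' θ : D.subgroupOf N → ℂ)).factorization p = 0 := by omega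
      have e8 : charDegree (z' θ : D.subgroupOf N → ℂ) ∣ Nat.card (D.subgroupOf N) :=
        Blocks.CentralProduct.degree_dvd_card (z' θ).2 (coe_charDegree (z' θ).2).symm
      obtain ⟨k, hk⟩ := (IsPGroup.iff_card (p := p)).1 hDp
      rw [hcD, hk] at e8
      obtain ⟨j, -, hj⟩ := (Nat.dvd_prime_pow hp.out).1 e8
      rw [hj, hp.out.factorization_pow, Finsupp.single_eq_same] at e7
      rw [hz1, ← coe_charDegree (z' θ).2, hj, e7]
      simp
    refine le_trans ?_ (count_lin_le hkgv (p := p) D T N hDp hN hNT hidx Ω hstΩ htrΩ z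
      (fun θ hθ θ' hθ' h => hinj θ hθ.1 θ' hθ'.1 h) (fun θ hθ => hres θ hθ.1) fun θ hθ => hθ.2)
    haveI := finite_irr (G := G)
    exact Nat.card_le_card_of_injective
      (fun χ : {χ : Cfsg.IrrCharacter G // χ ∈ B ∧ Cfsg.blockHeight p B (χ : G → ℂ) = 0} =>
        (⟨χ.1, hrootΩ χ.1 χ.2⟩ : {χ : IrrCharacter G // ∃ θ ∈ Ω,
          Over N.subtype (χ : G → ℂ) (θ : N → ℂ)}))
      fun χ χ' h => Subtype.ext (congrArg (fun x => x.1) h)

end Cfsg.Agent.H716.KGV
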